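import Cfsg.Agent.U4W.Cert0

/-!
The finite classification (S5210, `q = 2`).  Pure computations with `4 × 4` matrices over `ZMod 2`: use 16-bit codes,
`mm : ℕ → ℕ → ℕ` with `dm (mm a b) = dm a * dm b` (rows as nibbles, xor), `dm` injective on codes `< 65536`, `decide +kernel`; Python for the
certificates (`U4K/Cert` is the same for `q = 3`).

`cert`.  A matrix `m ∈ M` is bad if `m ^ 4 = 1 ≠ m ^ 2`, or if it violates `cm`.  For `i ≥ 3` let `g i` be the index `k` of the group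
`⟨Iv 0, Iv 1, Iv i⟩` if this is one of the 14 good groups (72 values of `i`); for the other 135 values a word of length `≤ 3` in
`Iv 0, Iv 1, Iv i` is bad.  Each `Iv j`, `j ∈ CC (g i)`, is a word in `Iv 0, Iv 1, Iv i`.  For `i, j` good, either `CC (g i) ∪ CC (g j) ⊆ CC k` with
`⟨Iv 0, Iv 1, Iv i, Iv j⟩` the `k`-th group (`D₁₂, D₁₂` generate `S₃ × S₃`), or a word of length `≤ 4` in representatives is bad.  Take `k` with
`CC k ⊆ P` maximal (chain `0 < 1 … 6 < 7 … 12`, `0 < 13, 14`).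
`cover`.  `s = m * Iv j * m'` has `s * s = 1` and `s - 1 = m * (Iv j - 1) * m'` has two independent columns of images (`(s - 1) *ᵥ (m *ᵥ u)`); check the
`65536` codes (or: the rows of `N = s - 1` with `N * N = 0`).
`nrm`.  `e = ![1, 0, 0, 0]`, the columns `e, Iv 0 e, Iv 1 e, Iv 0 Iv 1 e` form an invertible matrix `P`, and `g * P` has the columns
`v, Iv i v, Iv j v, Iv i Iv j v`, `v = g *ᵥ e`: `16 · 9` candidates, each singular, or one of the twelve, or generating a bad word with `Iv 0, Iv 1`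
(`g`, `g ^ 3`, `Iv a * g`, …).
-/

set_option autoImplicit false
set_option linter.unusedSimpArgs false

namespace Cfsg.Agent.U4W

open Subgroup Matrix Cfsg.Agent.RFS Cfsg.Agent.Fus Cfsg.Agent.U4F
open Cfsg.Agent.U5F (Cj σ SA Tn Lc)

theorem cert {M : Submonoid M2} (h : Sy M) : ∃ k < 15, ∀ i < 210, Iv i ∈ M ↔ (CC k).testBit i = true := by
  have ce := Ct.CB_ok
  simp only [Comp.allLT_iff, Comp.anyL_iff, Comp.force_eq, Comp.and'_eq_true, Comp.or'_eq_true, Comp.beq_iff, Comp.blt_iff,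
    Comp.tb_eq] at ce
  have bad : ∀ S, Ct.In M S → ∀ w, ¬ Ct.bad (Ct.ev S w) = true := fun S hS w => Ct.not_bad h (Ct.mm_lt _ _) (hS.ev w)
  have i0 : Ct.In M (CC 0) := fun i hi => by
    have e : Iv 0 * Iv 1 = Iv 2 := by
      rw [Ct.L_T 0 (by decide), Ct.L_T 1 (by decide), Ct.L_T 2 (by decide), ← Ct.dm_mm]
      exact congrArg dm (by decide +kernel)
    have : i < 3 := by
      by_contra k
      rw [Nat.testBit_lt_two_pow (lt_of_lt_of_le (by decide : CC 0 < 2 ^ 3) (Nat.pow_le_pow_right (by decide) (by omega)))] at hi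
      exact Bool.false_ne_true hi
    rw [← Ct.L_T i (by omega)]
    interval_cases i
    exacts [h.a, h.b, e ▸ M.mul_mem h.a h.b]
  obtain ⟨k, ⟨hk, hS⟩, hm⟩ := Set.exists_max_image {k | k < 15 ∧ Ct.In M (CC k)} Ct.rk
    ((Set.finite_lt_nat 15).subset fun _ h => h.1) ⟨0, by decide, i0⟩
  refine ⟨k, hk, fun j hj => ⟨fun hM => ?_, fun e => Ct.L_T j hj ▸ hS j e⟩⟩
  have h3 := hS.add (k := j) (Ct.L_T j hj ▸ hM)
  rcases ce k hk j hj with e | e | ⟨n, -, -, e | ⟨⟨e1, e2⟩, e3⟩⟩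
  · exact e
  · exact absurd e (bad _ h3 _)
  · exact absurd e (bad _ h3 _)
  · exact absurd e2 (hm _ ⟨e1, (h3.run _ _).mono e3⟩).not_gt

theorem cover {m m' : M2} (h : m * m' = 1) : ∀ j < 3, ∃ i < 210, m * Iv j * m' = Iv i := by
  intro j hj
  have h' : m' * m = 1 := mul_eq_one_comm.1 h
  have c : ∀ j < 3, Iv j * Iv j = 1 ∧ ∀ a b : V2, Iv j + 1 ≠ vecMulVec a b := by decide +kernel
  have ck := Ct.cov_ok
  simp only [Comp.allB_iff, Comp.anyLT_iff, Comp.anyL_iff, Comp.force_eq, Comp.or'_eq_true, Comp.not'_eq_true,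
    Comp.beq_iff] at ck
  obtain ⟨n, hn, e⟩ := Ct.exists_dm (m * Iv j * m')
  rcases ck n hn with k | ⟨i, hi, k⟩ | ⟨u, -, v, -, k⟩
  · refine absurd (Ct.dm_inj (Ct.mm_lt _ _) (by decide) ?_) k
    rw [Ct.dm_mm, e, Ct.dm_o1, Matrix.mul_assoc, ← Matrix.mul_assoc m', ← Matrix.mul_assoc m', h', Matrix.one_mul,
      ← Matrix.mul_assoc, Matrix.mul_assoc m, (c j hj).1, Matrix.mul_one, h]
  · exact ⟨i, hi, by rw [← e, k, Ct.L_T i hi]⟩
  · have k1 := congrArg (fun n => m' * dm n * m) k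
    simp only [Ct.dm_xor, Ct.dm_o1, e, (Ct.ou_spec _ _).2, mul_vecMulVec, vecMulVec_mul] at k1
    refine absurd (Eq.trans ?_ k1) ((c j hj).2 _ _)
    rw [Matrix.mul_add, Matrix.add_mul, Matrix.mul_one, h', ← Matrix.mul_assoc, ← Matrix.mul_assoc, h', Matrix.one_mul,
      Matrix.mul_assoc, h', Matrix.mul_one]

theorem nrm {M : Submonoid M2} (h : Sy M) {g g' : M2} (hg : g ∈ M) (e : g * g' = 1) {i j : ℕ} (hi : i < 3) (hj : j < 3)
    (h1 : g * Iv 0 = Iv i * g) (h2 : g * Iv 1 = Iv j * g) : ∃ a < 3, g = hh ^ a ∨ ∃ l < 3, g = Iv l * hh ^ a := by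
  obtain ⟨n, hn, rfl⟩ := Ct.exists_dm g
  have ck := Ct.nrm_ok
  have rk := Ct.row_ok
  simp only [Comp.allB_iff, Comp.allLT_iff, Comp.anyLT_iff, Comp.anyL_iff, Comp.force_eq, Comp.or'_eq_true, Comp.not'_eq_true,
    Comp.beq_iff, Comp.blt_iff, List.mem_cons, List.not_mem_nil, or_false] at ck rk
  have k : ∀ {i l : ℕ}, i < 3 → l < 3 → dm n * Iv l = Iv i * dm n → Ct.mm (n % 16) (Ct.L l) = n % 16 ∧
      ∃ a, (a = Ct.mm (Ct.L 0) n ∨ a = Ct.mm (Ct.L 1) n ∨ a = Ct.mm (Ct.L 2) n) ∧ Ct.mm n (Ct.L l) = a := by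
    intro i l hi hl e
    rw [Ct.L_T l (by omega), Ct.L_T i (by omega)] at e
    refine ⟨Ct.dm_inj (Ct.mm_lt _ _) (by omega) ?_, Ct.mm (Ct.L i) n, by interval_cases i <;> simp,
      Ct.dm_inj (Ct.mm_lt _ _) (Ct.mm_lt _ _) (by rw [Ct.dm_mm, Ct.dm_mm, e])⟩
    rw [← Ct.mm_one, Ct.dm_mm, Ct.dm_mm, Matrix.mul_assoc, e, ← Matrix.mul_assoc, ← Ct.dm_mm, rk.2 i hi]
  obtain ⟨a0, b0⟩ := k hi (by decide) h1
  obtain ⟨a1, b1⟩ := k hj (by decide) h2
  have r : n % 16 < 2 := (rk.1 _ (by omega)).resolve_right fun t => t.elim (· a0) (· a1)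
  have c := ck _ r (n / 16) (by omega)
  rw [show Nat.add (Nat.mul 16 (n / 16)) (n % 16) = n from Nat.div_add_mod n 16] at c
  have m0 : dm (Ct.L 0) ∈ M := Ct.L_T 0 (by decide) ▸ h.a
  have m1 : dm (Ct.L 1) ∈ M := Ct.L_T 1 (by decide) ▸ h.b
  rcases c with c | c | ⟨z, hz, c⟩ | (c | c | c) | ⟨x, hx, c⟩
  · exact absurd b0 c
  · exact absurd b1 c
  · have t := congrArg (fun n => dm n * g') c
    simp only [Ct.dm_mm, Ct.dm_zero, Matrix.mul_assoc, e, Matrix.mul_one, Matrix.zero_mul] at t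
    exact absurd (Ct.dm_inj (by omega) (by decide) (t.trans Ct.dm_zero.symm)) (Nat.succ_ne_zero z)
  · exact absurd c (Ct.not_bad h (Ct.mm_lt _ _) (by rw [Ct.dm_mm]; exact M.mul_mem m0 hg))
  · exact absurd c (Ct.not_bad h (Ct.mm_lt _ _) (by rw [Ct.dm_mm]; exact M.mul_mem m1 hg))
  · exact absurd c (Ct.not_bad h (Ct.mm_lt _ _) (by rw [Ct.dm_mm, Ct.dm_mm]; exact M.mul_mem hg (M.mul_mem hg hg)))
  · obtain ⟨a, ha, ea⟩ : ∃ a < 3, dm x = hh ^ a := by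
      rcases hx with rfl | rfl | rfl
      exacts [⟨0, by decide, Ct.dm_o1⟩, ⟨1, by decide, (pow_one _).symm⟩, ⟨2, by decide, by rw [Ct.dm_mm, sq, hh]⟩]
    refine ⟨a, ha, c.imp (fun c => by rw [c, ea]) fun ⟨l, hl, c⟩ => ⟨l, hl, ?_⟩⟩
    rw [c, Ct.dm_mm, ea, Ct.L_T l (by omega)]

theorem hh_cube : hh ^ 3 = 1 := by
  rw [pow_three, hh, ← Ct.dm_mm, ← Ct.dm_mm, ← Ct.dm_o1]
  exact congrArg dm (by decide +kernel)

theorem not_hh : ∀ k < 13, 1 ≤ k → ∃ i < 210, ∃ j < 210, (CC k).testBit i = true ∧ (CC k).testBit j = false ∧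
    hh * Iv i * hh ^ 2 = Iv j := by
  have c : ∀ k < 13, 1 ≤ k → ∃ p ∈ [(17, 70), (24, 65), (40, 24), (48, 17), (65, 40), (70, 48), (6, 14), (14, 10), (10, 6)],
      p.1 < 210 ∧ p.2 < 210 ∧ (CC k).testBit p.1 = true ∧ (CC k).testBit p.2 = false ∧
      Nat.beq (Ct.mm (Ct.mm 34369 (Ct.L p.1)) (Ct.mm 34369 34369)) (Ct.L p.2) = true := by decide +kernel
  intro k hk h1
  obtain ⟨p, -, a, b, c1, c2, c3⟩ := c k hk h1
  refine ⟨_, a, _, b, c1, c2, ?_⟩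
  rw [Ct.L_T _ a, Ct.L_T _ b, ← (Comp.beq_iff _ _).1 c3, Ct.dm_mm, Ct.dm_mm, Ct.dm_mm, sq, hh]

theorem hh_mem : ∀ k < 15, 13 ≤ k → ∃ i < 210, ∃ j < 210, (CC k).testBit i = true ∧ (CC k).testBit j = true ∧ hh = Iv i * Iv j := by
  have c : ∀ k < 15, 13 ≤ k → ∃ p ∈ [(3, 5), (89, 93)], p.1 < 210 ∧ p.2 < 210 ∧ (CC k).testBit p.1 = true ∧
      (CC k).testBit p.2 = true ∧ Nat.beq 34369 (Ct.mm (Ct.L p.1) (Ct.L p.2)) = true := by decide +kernel
  intro k hk h1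
  obtain ⟨p, -, a, b, c1, c2, c3⟩ := c k hk h1
  refine ⟨_, a, _, b, c1, c2, ?_⟩
  rw [Ct.L_T _ a, Ct.L_T _ b, ← Ct.dm_mm, ← (Comp.beq_iff _ _).1 c3, hh]

theorem cen : ∀ k < 7, 1 ≤ k → ∃ j < 3, ∀ i < 210, (CC k).testBit i = true → Iv i * Iv j = Iv j * Iv i := by
  have c : ∀ k < 7, 1 ≤ k → ∃ j < 3, ∀ i < 210, (CC k).testBit i = true →
      Nat.beq (Ct.mm (Ct.L i) (Ct.L j)) (Ct.mm (Ct.L j) (Ct.L i)) = true := by decide +kernel
  intro k hk h1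
  obtain ⟨j, hj, c⟩ := c k hk h1
  refine ⟨j, hj, fun i hi e => ?_⟩
  rw [Ct.L_T i hi, Ct.L_T j (by omega), ← Ct.dm_mm, (Comp.beq_iff _ _).1 (c i hi e), Ct.dm_mm]

theorem CC_zero : ∀ i < 210, (CC 0).testBit i = true → i < 3 := by
  decide +kernel

theorem uniq : ∀ k < 15, 7 ≤ k → i1 k < 210 ∧ i2 k < 210 ∧
    ∀ k' < 15, (CC k').testBit (i1 k) = true → (CC k').testBit (i2 k) = true → k' = k := by
  decide +kernel

end Cfsg.Agent.U4W
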