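import Cfsg.Agent.U4F.Def
import Cfsg.Agent.Class.FieldTransport

/-!
Fusion systems on the Sylow `2`-subgroup `S4 = U K4` of `SU₄(2)` (for S5210, `q = 2`): definitions and tables.

`K4 = GF4`, `J = As = F₂⁴` (coordinates `vec`), `ra α` is the matrix of `α ∈ Aut J`.  `Iv i` (`i < 210`) are the involutions of rank two of
`GL₄(2)`, `T = Aut_S(J) = {1, Iv 0, Iv 1, Iv 2}`.  A subgroup with the Sylow subgroup `T` has one of the sets of involutions `CC k`:
`k = 0` (`T` normal), `1 … 6` (`D₁₂`), `7 … 12` (`S₃ × S₃`, the group `L₄(2)`), `13, 14` (`A₅`, the group `U₄(2)`).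
-/

set_option autoImplicit false

namespace Cfsg.Agent.U4W

open Subgroup Cfsg.Agent.RFS Cfsg.Agent.Fus Cfsg.Agent.U4F
open Cfsg.Agent.U5F (Cj σ SA Tn)

/-- The field with four elements. -/
abbrev K4 : Type := Class.GF4

instance : Cj K4 := ⟨2, Class.U.UF.of_card (by rw [Class.card_GF4]; rfl)⟩

instance : CharP K4 2 := charP_of_injective_algebraMap (algebraMap (ZMod 2) K4).injective 2

theorem σ4 (x : K4) : σ x = ⟨x.re + x.im, x.im⟩ := by
  obtain ⟨a, b⟩ := x
  change (⟨a, b⟩ : K4) ^ 2 = _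
  rw [pow_two]
  revert a b
  decide

/-- The Sylow subgroup. -/
abbrev S4 : Type := U K4

instance : DecidableEq S4 := fun u v =>
  decidable_of_iff (u.y = v.y ∧ u.b = v.b ∧ u.w = v.w ∧ u.c = v.c) U.ext_iff.symm

theorem pure4 (b : ZMod 2) : σ (⟨b, 0⟩ : K4) = -⟨b, 0⟩ := by
  rw [σ4]
  revert b
  decide

/-- The element with the given coordinates. -/
def mk4 (y₁ y₂ b w₁ w₂ c : ZMod 2) : S4 := ⟨⟨y₁, y₂⟩, ⟨b, 0⟩, ⟨w₁, w₂⟩, ⟨c, 0⟩, pure4 b, pure4 c⟩

theorem im_eq_zero {b : K4} (h : σ b = -b) : b.im = 0 := by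
  rw [σ4] at h
  obtain ⟨x, y⟩ := b
  revert x y
  decide

theorem exists_mk4 (u : S4) : u = mk4 u.y.re u.y.im u.b.re u.w.re u.w.im u.c.re :=
  U.ext rfl (QuadraticAlgebra.ext rfl (im_eq_zero u.hb)) rfl (QuadraticAlgebra.ext rfl (im_eq_zero u.hc))

/-- Use `forall4.2 (by decide +kernel)` for decidable statements about all elements. -/
theorem forall4 {P : S4 → Prop} : (∀ u, P u) ↔ ∀ y₁ y₂ b w₁ w₂ c, P (mk4 y₁ y₂ b w₁ w₂ c) :=
  ⟨fun h _ _ _ _ _ _ => h _, fun h u => exists_mk4 u ▸ h ..⟩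

theorem exists4 {P : S4 → Prop} : (∃ u, P u) ↔ ∃ y₁ y₂ b w₁ w₂ c, P (mk4 y₁ y₂ b w₁ w₂ c) :=
  ⟨fun ⟨u, h⟩ => ⟨_, _, _, _, _, _, exists_mk4 u ▸ h⟩, fun ⟨_, _, _, _, _, _, h⟩ => ⟨_, h⟩⟩

theorem not_G2 : ¬ G2 K4 := by
  rintro ⟨⟨a, b⟩, h, h0, h1⟩
  rw [σ4] at h
  revert a b
  decide

/-- A generator of the unit group. -/
def ou : K4ˣ := ⟨⟨0, 1⟩, ⟨1, 1⟩, by decide, by decide⟩

/-- Generators. -/
def gA : S4 := mk4 1 0 0 0 0 0
/-- Generators. -/
def gB : S4 := mk4 0 1 0 0 0 0
/-- Generators. -/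
def gC : S4 := mk4 0 0 1 0 0 0
/-- Generators. -/
def gU : S4 := mk4 0 0 0 1 0 0
/-- Generators. -/
def gW : S4 := mk4 0 0 0 0 1 0
/-- Generators. -/
def gZ : S4 := mk4 0 0 0 0 0 1

/-- The automorphism of order three. -/
def hS : MulAut S4 := tf ou 1 1

/-- The automorphisms which permute the models. -/
def γ (k : ℕ) : MulAut S4 :=
  zk 1 (map_one σ) ^ [0, 0, 0, 1, 1, 1, 0, 1].getD (k - 7) 0 * hS ^ [2, 1, 0, 1, 2, 0, 0, 0].getD (k - 7) 0

/-- A reflection in `L₄(2)`. -/
def s1 (u : S4) : S4 := mk4 0 0 (u.w.re + u.b.re) u.w.re (u.c.re + u.w.re + u.b.re) (u.w.im + u.b.re)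

/-- A reflection in `L₄(2)`. -/
def s2 (u : S4) : S4 := mk4 0 0 (u.w.im + u.b.re) (u.c.re + u.w.im + u.b.re) u.w.im (u.w.re + u.b.re)

/-- `J`. -/
abbrev V2 : Type := Fin 4 → ZMod 2
/-- Matrices. -/
abbrev M2 : Type := Matrix (Fin 4) (Fin 4) (ZMod 2)

/-- Coordinates on `J`. -/
def vec (u : S4) : V2 := ![u.b.re, u.w.re, u.w.im, u.c.re]

/-- The matrix of a map on `J`. -/
def rf (f : S4 → S4) : M2 := Matrix.of fun i j => vec (f (![gC, gU, gW, gZ] j)) i

/-- The matrix of `α`. -/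
noncomputable def ra (α : MulAut (As : Subgroup S4)) : M2 := rf (afn α)

/-- Decoding of matrices. -/
def dm (n : ℕ) : M2 := Matrix.of fun i j => ((n / 2 ^ (4 * i.1 + j.1) % 2 : ℕ) : ZMod 2)

/-- Codes. -/
def tI : List ℕ :=
  [54321, 46369, 62769, 4680, 5064, 5224, 5368, 5672, 6072, 6744, 7128, 7544, 7656, 7864,
   7976, 8580, 9100, 9349, 9359, 9601, 10123, 10630, 11150, 11659, 11911, 11917, 12161, 12740,
   12876, 13422, 13525, 13713, 13866, 14839, 14975, 15658, 16017, 16221, 16358, 18450, 18467, 18479,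
   18481, 18522, 18557, 18582, 18621, 18654, 18663, 18667, 18673, 21066, 21499, 21612, 21692, 22062,
   22479, 22833, 23009, 23058, 23331, 24310, 24471, 24980, 25535, 25797, 25803, 26065, 26620, 26898,
   27171, 27181, 27441, 27999, 28538, 29140, 29262, 29802, 29845, 30145, 30252, 31011, 31281, 31506,
   31725, 32190, 32475, 33188, 33268, 33353, 33359, 33710, 33753, 33897, 33901, 33957, 33965, 34021,
   34025, 34209, 34225, 34345, 34347, 34714, 34729, 35196, 35244, 35527, 35529, 35673, 35750, 35858,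
   35875, 35883, 35889, 35934, 35961, 35994, 36007, 36015, 36017, 36054, 36089, 36145, 36257, 36387,
   36393, 36626, 36777, 37441, 37713, 37985, 38001, 38369, 38385, 38433, 38689, 39633, 39873, 40497,
   40753, 41252, 41766, 42021, 42023, 42273, 42541, 42543, 42785, 43310, 43820, 44323, 44835, 45428,
   45639, 46166, 46181, 46625, 47070, 47085, 47567, 47868, 48402, 48658, 50194, 50211, 50215, 50225,
   50262, 50283, 50287, 50289, 50334, 50357, 50394, 50421, 53684, 53732, 53831, 54054, 54369, 54819,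
   55058, 55967, 56190, 56955, 57290, 57716, 57931, 57933, 58193, 58403, 58405, 58673, 59154, 59898,
   60375, 60855, 61340, 61732, 62017, 62365, 62442, 62482, 62565, 63011, 63835, 64182, 64966, 65116]

/-- The involutions. -/
def Iv (i : ℕ) : M2 := dm (tI.getD i 0)

/-- The matrix of `hS`. -/
def hh : M2 := dm 34369

/-- The possible sets of involutions, as bit masks. -/
def CC (k : ℕ) : ℕ :=
  [0x7, 0x100000000000000000000010000000000000040020007,
   0x8000000000000000000002000000000000000000000201000007, 0x40000000080000000000000001000010000000007,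
   0x10000000000000000000000004000000000004001000000000007, 0x200000000000000000000008040020000000000000007,
   0x80000000000008000000200400000000000000007, 0x8000000000080000000002008000404200400000000601000047,
   0x10000000200000000000000004040009040024101000000004007, 0x100040000000080000000050000001010012040020407,
   0x8000000100024000000042000000010000000000000341020007, 0x10000050000040000000080004004000000005021010000000007,
   0x20400000200080000000000009000008250420000000000000007, 0x42000280000180000000008200010000000000000000000000af,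
   0x20222004100040880800410007].getD k 0

/-- Two involutions which determine `k ≥ 7`. -/
def i1 (k : ℕ) : ℕ := [33, 78, 60, 17, 48, 70, 5, 93].getD (k - 7) 0
/-- Two involutions which determine `k ≥ 7`. -/
def i2 (k : ℕ) : ℕ := [81, 62, 30, 24, 40, 65, 5, 93].getD (k - 7) 0

/-- Consequences of the Sylow property. -/
structure Sy (M : Submonoid M2) : Prop where
  a : Iv 0 ∈ M
  b : Iv 1 ∈ M
  o4 : ∀ m ∈ M, m ^ 4 = 1 → m ^ 2 = 1
  cm : ∀ m ∈ M, m ^ 2 = 1 → m * Iv 0 = Iv 0 * m → m * Iv 1 = Iv 1 * m → m = 1 ∨ ∃ i < 3, m = Iv i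

/-- The type of `B` is `k`. -/
def Ty (B : Subgroup (MulAut (As : Subgroup S4))) (k : ℕ) : Prop := ∀ i < 210, (∃ β ∈ B, ra β = Iv i) ↔ (CC k).testBit i = true

/-- `T` is a Sylow subgroup of `B`. -/
structure Lj (B : Subgroup (MulAut (As : Subgroup S4))) : Prop where
  le : Tn As ≤ B
  syl : SylIn 2 (Tn As) B

end Cfsg.Agent.U4W
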