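import Cfsg.Agent.U4W.QQ
import Cfsg.Agent.U4F.Fin

/-!
A saturated system is determined by the automizer of `J` (S5210, `q = 2`).

`lj_AS`, `extJ`: as `U4K.lq_AS` (`As` is normal, so fully normalized, and centric: `mem_As_of_comm`); `sat_extend_of_centric` with `R = ⊤` resp. `R = Ey y`,
`mem_Nf_afn`.  `ch_Ey`: `U4F.ch_As`, with `Ch (Ey y) (C0 y)` since `C0 y = Zc (Ey y)` (`U5F.ch_Zc`, `Ch.congr`, `decide`).
`innE`: `x = Xy y`, `Ey y = As ∪ As x`.  `j = x⁻¹ * δ x` centralises `As`, so `j ∈ As`; `(δ x)² = 1`; `decide`: `∀ j ∈ As, (x j)² = 1 → ∃ i ∈ As, i x i⁻¹ = x j`.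
`innS`: `δ gA = gA j`, `δ gB = gB j'` with `j, j' ∈ As`; `(gA j)² = 1 = (gB j')²`, `gA j` and `gB j'` commute; `decide`: some `i ∈ As` conjugates both;
`S4 = As {1, gA, gB, gA gB}`.
`resE`: restrict `α` to `As` (`ch_Ey`, `IsMap.mono`, `IsMap.exists_aut'`); `β * cA x * β⁻¹ = cA (α x)`, `(α x).y = y` (`cA_congr`).
`autE`: `extJE` gives `f`, it maps `Ey y` into itself (`f x` acts on `As` as `x`), so it is some `α' ∈ F.autGroup (Ey y)`; `innE` for `α'⁻¹ * α`.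
`le2`: `alperin_le`, `ess`; `P = ⊤`: `res_conj`, `extJ`, `innS`; `P = Qs`: `genQ2`; `P = Ey y`: `resE`, `autE`.
-/

set_option autoImplicit false
set_option linter.unusedSimpArgs false

namespace Cfsg.Agent.U4W

open Subgroup Matrix Cfsg.Agent.RFS Cfsg.Agent.Fus Cfsg.Agent.U4F Cfsg.FusionSystem Cfsg.Agent.SpF
open Cfsg.Agent.U5F (Cj σ SA Tn Lc)

variable {F F' : FusionSystem (⊤ : Subgroup S4)}

private theorem ex_fn (F : FusionSystem (⊤ : Subgroup S4)) : F.IsFullyNormalized As :=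
  fullyNormalized_of_le_normalizer F le_top le_normalizer_of_normal

private theorem ex_cen (hF : F.IsSaturated 2) : F.IsCentric As :=
  centric_of_fullyCentralized (sat_fullyCentralized U4F.pT hF (ex_fn F)) fun _ hx =>
    mem_As_of_comm fun w => (hx.2 (Xw w) rfl).symm

private theorem ex_nm (s : S4) : s ∈ normalizerIn ⊤ (As : Subgroup S4) :=
  mem_normalizerIn_of_conj trivial fun _ hx => Normal.conj_mem inferInstance _ hx s

private theorem ex_cj (g : S4) {u : S4} (hu : u ∈ As) : g * u * g⁻¹ ∈ As := Normal.conj_mem inferInstance _ hu g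

private theorem ex_y {y a : K4} (hy : y ≠ 0) (h : a * σ y = σ a * y) : a = 0 ∨ a = y := by
  rw [σ4, σ4] at h
  obtain ⟨a1, a2⟩ := a
  obtain ⟨y1, y2⟩ := y
  revert a1 a2 y1 y2
  decide

private theorem ex_X (y : K4) : Xy y ∈ Ey y := mul_comm _ _

private theorem ex_dec {y : K4} (hy : y ≠ 0) {u : S4} (hu : u ∈ Ey y) : u ∈ As ∨ ∃ a ∈ As, u = a * Xy y := by
  refine (ex_y hy hu).imp_right fun e => ⟨u * (Xy y)⁻¹, ?_, by group⟩
  simp only [mem_As, UE, e, add_neg_cancel]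

/-- two elements with the same action on `As` -/
private theorem ex_eq {g g' : S4} (h : ∀ u ∈ As, g * u * g⁻¹ = g' * u * g'⁻¹) : g.y = g'.y := by
  have : g'⁻¹ * g ∈ As := mem_As_of_comm fun w => by
    calc g'⁻¹ * g * Xw w = g'⁻¹ * (g * Xw w * g⁻¹) * g := by group
      _ = _ := by rw [h _ rfl]; group
  simp only [mem_As, UE] at this
  linear_combination this

private theorem ex_d1 : ∀ v : S4, v.y ≠ 0 → v * v = 1 →
    ∃ b w₁ w₂ c, mk4 0 0 b w₁ w₂ c * Xy v.y * (mk4 0 0 b w₁ w₂ c)⁻¹ = v :=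
  forall4.2 (by decide +kernel)

private theorem ex_d2 : ∀ b w₁ w₂ c b' w₁' w₂' c' : ZMod 2, mk4 1 0 b w₁ w₂ c * mk4 1 0 b w₁ w₂ c = 1 →
    mk4 0 1 b' w₁' w₂' c' * mk4 0 1 b' w₁' w₂' c' = 1 →
    mk4 1 0 b w₁ w₂ c * mk4 0 1 b' w₁' w₂' c' = mk4 0 1 b' w₁' w₂' c' * mk4 1 0 b w₁ w₂ c →
    ∃ x y z t, mk4 0 0 x y z t * gA * (mk4 0 0 x y z t)⁻¹ = mk4 1 0 b w₁ w₂ c ∧
      mk4 0 0 x y z t * gB * (mk4 0 0 x y z t)⁻¹ = mk4 0 1 b' w₁' w₂' c' := by decide +kernel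

private theorem ex_d3 : ∀ u : S4, u.y = 0 ∨ (u * gA).y = 0 ∨ (u * gB).y = 0 ∨ (u * gA * gB).y = 0 :=
  forall4.2 (by decide +kernel)

private theorem ex_d4 : gA * gA = 1 ∧ gB * gB = 1 ∧ gA * gB = gB * gA := by decide +kernel

private theorem ex_sq (y : K4) : Xy y * Xy y = 1 := by
  ext1 <;> simp only [UE, CharTwo.add_self_eq_zero]

theorem lj_AS (hF : F.IsSaturated 2) : Lj (F.autGroup As) :=
  ⟨U5F.Tn_eq (As : Subgroup S4) ▸ autInducedBy_le_autGroup F le_top,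
    U5F.Tn_eq (As : Subgroup S4) ▸ (sat_fullyAutomized U4F.pT hF (ex_fn F)).2⟩

theorem extJ (hF : F.IsSaturated 2) {β : MulAut (As : Subgroup S4)} (hβ : β ∈ F.autGroup As)
    (h : ∀ t ∈ Tn As, β * t * β⁻¹ ∈ Tn As) : ∃ φ ∈ AS F, rA φ = β := by
  rw [U5F.Tn_eq] at h
  obtain ⟨f, hf, e⟩ := sat_extend_of_centric (R := ⊤) U4F.pT hF ((mem_autGroup le_top).1 hβ) (ex_cen hF) fun s _ =>
    mem_Nf_afn (ex_nm s) (h _ (conjAut_mem_autInducedBy (ex_nm s)))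
  obtain ⟨φ, h3, h4⟩ := exists_AS hf
  exact ⟨φ, h3, aut_ext fun x hx => (U5F.afn_res φ hx).trans ((h4 x).trans (e x hx))⟩

theorem extJE (hF : F.IsSaturated 2) {β : MulAut (As : Subgroup S4)} (hβ : β ∈ F.autGroup As) {y : K4} (hy : y ≠ 0)
    (h : β * cA (Xy y) = cA (Xy y) * β) : ∃ f, IsMap F (Ey y) f ∧ ∀ u ∈ As, f u = afn β u := by
  refine sat_extend_of_centric (R := Ey y) U4F.pT hF ((mem_autGroup le_top).1 hβ) (ex_cen hF) fun s hs =>
    mem_Nf_afn (ex_nm s) ?_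
  have e : conjAut As s (ex_nm s).2 = cA s := aut_ext fun x hx => by rw [afn_conjAut _ hx, afn_cA _ hx]
  rw [e, ← U5F.Tn_eq]
  rcases ex_y hy hs with e' | e'
  · rw [cA_congr (h := 1) e', cA, map_one, map_one, mul_one, mul_inv_cancel]
    exact one_mem _
  · rw [cA_congr (h := Xy y) e', h, mul_inv_cancel_right]
    exact ⟨_, rfl⟩

private theorem ex_C0 {K : Type*} [Field K] [Cj K] {y : K} (hy : y ≠ 0) : Ch (Ey y) (C0 y) := by
  have hX : Xy y ∈ Ey y := mul_comm _ _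
  refine (U5F.ch_Zc (Ey y)).congr fun z hz => ⟨fun h => ?_, fun h => ?_⟩
  · obtain ⟨a, b⟩ := zc_C0 (g := Xy y) (Z2_le_As.trans As_le_Ey) hX hy h
    exact ⟨a.1, a.2, b _ hX⟩
  · exact U5F.mem_Zc.2 ⟨hz, fun _ hg => (com_C0 hy hg h).symm⟩

theorem ch_Ey {y : K4} (hy : y ≠ 0) : Ch (Ey y : Subgroup S4) As :=
  ch_As (by decide) hy (ex_C0 hy)

theorem innE {y : K4} (hy : y ≠ 0) {δ : MulAut (Ey y : Subgroup S4)} (h : ∀ u ∈ As, afn δ u = u) :
    ∃ i ∈ As, ∀ u ∈ Ey y, afn δ u = i * u * i⁻¹ := by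
  have hm := homOn_afn δ
  have h1 : (afn δ (Xy y)).y = y := ex_eq (g' := Xy y) fun u hu => by
    rw [← h _ (ex_cj (Xy y) hu), hm.map_conj (ex_X y) (As_le_Ey hu), h u hu]
  obtain ⟨b, w₁, w₂, c, e⟩ := ex_d1 _ (h1.symm ▸ hy) (afn_sq δ (ex_X y) (ex_sq y))
  rw [h1] at e
  have hi : mk4 0 0 b w₁ w₂ c ∈ As := rfl
  have h2 : ∀ u ∈ As, afn δ u = mk4 0 0 b w₁ w₂ c * u * (mk4 0 0 b w₁ w₂ c)⁻¹ := fun u hu => by
    rw [h u hu, com_As hi hu, mul_inv_cancel_right]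
  refine ⟨_, hi, fun u hu => ?_⟩
  rcases ex_dec hy hu with hu | ⟨a, ha, rfl⟩
  · exact h2 u hu
  · rw [hm _ (As_le_Ey ha) _ (ex_X y), h2 a ha, ← e, conj_mul]

theorem innS {δ : MulAut S4} (h : ∀ u ∈ As, δ u = u) : ∃ i, δ = MulAut.conj i := by
  have h1 : ∀ g, (δ g).y = g.y := fun g => ex_eq fun u hu => by
    rw [← h _ (ex_cj g hu), map_mul, map_mul, map_inv, h u hu]
  have a1 := exists_mk4 (δ gA)
  have a2 := exists_mk4 (δ gB)
  rw [h1] at a1 a2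
  obtain ⟨x, y, z, t, e1, e2⟩ := ex_d2 (δ gA).b.re (δ gA).w.re (δ gA).w.im (δ gA).c.re (δ gB).b.re (δ gB).w.re
    (δ gB).w.im (δ gB).c.re
    (by have := congrArg δ ex_d4.1; rwa [map_mul, map_one, a1] at this)
    (by have := congrArg δ ex_d4.2.1; rwa [map_mul, map_one, a2] at this)
    (by have := congrArg δ ex_d4.2.2; rwa [map_mul, map_mul, a1, a2] at this)
  have hi : mk4 0 0 x y z t ∈ As := rfl
  generalize mk4 0 0 x y z t = i at e1 e2 hi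
  let H := δ.toMonoidHom.eqLocus (MulAut.conj i).toMonoidHom
  have b0 : As ≤ H := fun u hu => show δ u = i * u * i⁻¹ by rw [h u hu, com_As hi hu, mul_inv_cancel_right]
  have b1 : gA ∈ H := a1.trans e1.symm
  have b2 : gB ∈ H := a2.trans e2.symm
  refine ⟨i, MulEquiv.ext fun u => show u ∈ H from ?_⟩
  rcases ex_d3 u with c | c | c | c
  · exact b0 c
  · exact (mul_mem_cancel_right b1).1 (b0 c)
  · exact (mul_mem_cancel_right b2).1 (b0 c)
  · exact (mul_mem_cancel_right b1).1 ((mul_mem_cancel_right b2).1 (b0 c))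

theorem resE {y : K4} (hy : y ≠ 0) {α : MulAut (Ey y : Subgroup S4)} (hα : α ∈ F.autGroup (Ey y)) :
    ∃ β ∈ F.autGroup As, (∀ u ∈ As, afn β u = afn α u) ∧ β * cA (Xy y) = cA (Xy y) * β := by
  obtain ⟨β, hβ, e⟩ := (((mem_autGroup le_top).1 hα).mono As_le_Ey).exists_aut' fun u hu =>
    ch_Ey hy α u (As_le_Ey hu) hu
  refine ⟨β, hβ, e, aut_ext fun u hu => ?_⟩
  have hm := homOn_afn α
  have h1 : (afn α (Xy y)).y = (Xy y).y := (ex_y hy (afn_mem α (ex_X y))).resolve_left fun c => hy (by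
    have := ch_Ey hy α⁻¹ _ (afn_mem α (ex_X y)) c
    rwa [afn_inv_afn α (ex_X y)] at this)
  rw [afn_mul _ _ hu, afn_mul _ _ hu, afn_cA _ hu, e _ (ex_cj _ hu),
    hm.map_conj (ex_X y) (As_le_Ey hu), ← cA_congr h1, afn_cA _ (afn_mem β hu), e u hu]

theorem autE (hF : F.IsSaturated 2) {y : K4} (hy : y ≠ 0) {α : MulAut (Ey y : Subgroup S4)} {β : MulAut (As : Subgroup S4)}
    (hβ : β ∈ F.autGroup As) (e : ∀ u ∈ As, afn β u = afn α u) (h : β * cA (Xy y) = cA (Xy y) * β) : α ∈ F.autGroup (Ey y) := by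
  obtain ⟨f, hf, ef⟩ := extJE hF hβ hy h
  have hm := hf.homOn
  have h1 : (f (Xy y)).y = y := ex_eq (g' := Xy y) fun u hu => by
    have hv := afn_mem β⁻¹ hu
    have := congrArg (fun γ => afn γ (afn β⁻¹ u)) h
    simp only [afn_mul _ _ hv, afn_afn_inv β hu, afn_cA _ hv, afn_cA _ hu] at this
    rw [← this, ← ef _ (ex_cj _ hv), hm.map_conj (ex_X y) (As_le_Ey hv), ef _ hv, afn_afn_inv β hu]
  have h2 : f (Xy y) ∈ Ey y := by rw [mem_Ey, h1, mul_comm]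
  have h3 : ∀ u ∈ As, f u ∈ Ey y := fun u hu => As_le_Ey (ef u hu ▸ afn_mem β hu)
  obtain ⟨α', hα', e'⟩ := hf.exists_aut' fun u hu => by
    rcases ex_dec hy hu with hu | ⟨a, ha, rfl⟩
    · exact h3 u hu
    · rw [hm _ (As_le_Ey ha) _ (ex_X y)]
      exact mul_mem (h3 a ha) h2
  obtain ⟨i, -, ei⟩ := innE hy (δ := α'⁻¹ * α) fun u hu => by
    rw [afn_mul _ _ (As_le_Ey hu), ← e u hu, ← ef u hu, ← e' u (As_le_Ey hu), afn_inv_afn _ (As_le_Ey hu)]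
  exact (mul_mem_cancel_left (inv_mem hα')).1 (mem_autGroup_of_isMap (isMap_conj F le_top (mem_top i)) ei)

theorem le2 (hF : F.IsSaturated 2) (hF' : F'.IsSaturated 2) (hω : ωQ K4 ∈ F'.autGroup Qs) (h : F.autGroup As ≤ F'.autGroup As) :
    F ≤ F' := by
  have k : AS F ≤ AS F' := fun φ hφ => by
    obtain ⟨φ', h1, h2⟩ := extJ hF' (h (U5F.res_mem hφ)) (by
      rintro _ ⟨g, rfl⟩
      exact ⟨φ g, (U5F.res_conj φ g).symm⟩)
    obtain ⟨i, e⟩ := innS (δ := φ'⁻¹ * φ) fun u hu => by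
      rw [MulAut.mul_apply, ← U5F.afn_res (E := As) φ hu, ← h2, U5F.afn_res φ' hu]
      exact φ'.symm_apply_apply u
    exact (mul_mem_cancel_left (inv_mem h1)).1 (e ▸ conj_mem_AS F' i)
  refine alperin_le U4F.pT hF F' ?_
  rintro P (rfl | hP) α hα
  · obtain ⟨φ, h1, h2⟩ := exists_AS ((mem_autGroup le_rfl).1 hα)
    exact mem_autGroup_of_isMap (k h1) fun x _ => (h2 x).symm
  obtain rfl | rfl | ⟨-, y, hy, rfl⟩ := ess hF hP
  · obtain ⟨φ, h1, rfl | ⟨g, rfl⟩⟩ := genQ2 (U5F.sa_AS U4F.pT hF) (U5F.lc_AS U4F.pT hF hP) hα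
    exacts [U5F.res_mem (k h1), mul_mem (mul_mem (U5F.res_mem (conj_mem_AS F' g)) hω) (U5F.res_mem (k h1))]
  · exact h hα
  · obtain ⟨β, h1, h2, h3⟩ := resE hy hα
    exact autE hF' hy (h h1) h2 h3

end Cfsg.Agent.U4W
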