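import Cfsg.Agent.U4W.Ext

/-!
Systems with a nontrivial normal subgroup (S5210, `q = 2`).  Use `isNormal_of_essential`, `le_core`, `ess`, `not_norm`, `U5F.lc_AS`.

`not_essE`: let `α ∈ F.autGroup (Ey y)`, `β` from `resE`; `extJ` gives `φ ∈ AS F` with `rA φ = β`; `φ` maps `Ey y` to itself (`res_conj`, `cA (φ x) = cA x`),
`innE` shows `afn α u = i * φ u * i⁻¹`; so `α` normalises `autInducedBy ⊤ (Ey y)`, contradicting `not_norm`.
`ess_Q`: otherwise `As` is normal in `F` (`chr_mem`, `ch_Ey`).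
`not_ty0`: `As` is not essential (`Lc.nn`), no `Ey y` is essential (`not_essE`), so `Qs` is normal (`isNormal_of_uniq`).
`not_ty1`: `As` is not essential (`Lc.rad` for `zpowers (cA (Xy y))`; `Inn As` is trivial as `As` is abelian).  `Ey y'`, `y' ≠ y`, is not essential (`β` commutes with
two of the three involutions of `Tn As`).  `R = Ey y ⊓ Qs ⊓ {w σ y = σ w y}` (order 8, define it as a subgroup) is normal: `u ∈ R` iff `u ∈ C0 y` or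
`u ∈ Ey y \ As` with `u² = 1` (`decide`), `C0 y = Zc (Ey y)`; so `R` is invariant under `Aut (Ey y)` (`ch_Ey`), under `φ ∈ AS F` (`φ` maps `Ey y` to itself as
`rA φ` commutes with `cA (Xy y)`), and under `Aut_F(Q)` (`genQ2`, `ωQ_eq`, `afn_ω0`).
-/

set_option autoImplicit false
set_option linter.unusedSimpArgs false

namespace Cfsg.Agent.U4W

open Subgroup Matrix Cfsg.Agent.RFS Cfsg.Agent.Fus Cfsg.Agent.U4F Cfsg.FusionSystem Cfsg.Agent.SpF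
open Cfsg.Agent.U5F (Cj σ SA Tn Lc)

variable {F : FusionSystem (⊤ : Subgroup S4)}

theorem nrm_cA {g h : S4} (e : cA g = cA h) : g.y = h.y := by
  have a := (cjA g (u := gC) rfl).2.1
  rw [e, (cjA h (u := gC) rfl).2.1] at a
  exact mul_right_cancel₀ (by decide) (add_left_cancel a).symm

theorem nrm_K : (∀ y a : K4, y ≠ 0 → (a * σ y = σ a * y ↔ a = 0 ∨ a = y)) ∧
    ∀ y y' a : K4, y ≠ 0 → y' ≠ 0 → y' ≠ y → a = 0 ∨ a = y ∨ a = y' ∨ a = y + y' := by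
  refine ⟨fun ⟨a, b⟩ ⟨c, d⟩ => ?_, fun ⟨a, b⟩ ⟨c, d⟩ ⟨e, f⟩ => ?_⟩
  · simp only [σ4]
    revert a b c d
    decide
  · revert a b c d e f
    decide

theorem nrm_φ {φ : MulAut S4} {y : K4} (hy : y ≠ 0) (h : rA φ * cA (Xy y) = cA (Xy y) * rA φ) :
    ∀ u ∈ Ey y, φ u ∈ Ey y := fun u hu => by
  rcases (nrm_K.1 y u.y hy).1 hu with e | e
  · exact As_le_Ey (U5F.chr_mem φ e)
  · refine (nrm_K.1 y _ hy).2 (Or.inr (nrm_cA (h := Xy y) ?_))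
    rw [cA, rA, ← U5F.res_conj]
    exact mul_inv_eq_iff_eq_mul.2 ((cA_congr (g := u) (h := Xy y) e).symm ▸ h : rA φ * cA u = _)

theorem nrm_bot (hc : F.core = ⊥) {Q : Subgroup S4} (h : F.IsNormal Q) (hz : gZ ∈ Q) : False :=
  absurd (mem_bot.1 (hc ▸ le_core h hz)) (by decide)

theorem not_essE (hF : F.IsSaturated 2) {y : K4} (hy : y ≠ 0)
    (h : ∀ β ∈ F.autGroup As, β * cA (Xy y) = cA (Xy y) * β → ∀ t ∈ Tn As, β * t * β⁻¹ ∈ Tn As) : ¬ F.IsEssential 2 (Ey y) := by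
  refine fun hE => not_norm pT hF hE fun α hα s hs => ?_
  obtain ⟨β, hβ, e1, e2⟩ := resE hy hα
  obtain ⟨φ, hφ, rfl⟩ := extJ hF hβ (h β hβ e2)
  obtain ⟨α', -, e3⟩ := exists_res_AS hφ (nrm_φ hy e2)
  obtain ⟨i, hi, e4⟩ := innE hy (δ := α'⁻¹ * α) fun u hu => by
    rw [afn_mul _ _ (As_le_Ey hu), ← e1 u hu, U5F.afn_res φ hu, ← e3 u (As_le_Ey hu), afn_inv_afn _ (As_le_Ey hu)]
  have e5 : ∀ u ∈ Ey y, afn α u = φ (i * u * i⁻¹) := fun u hu => by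
    rw [← e4 u hu, ← e3 _ (afn_mem _ hu), ← afn_mul _ _ hu, mul_inv_cancel_left]
  obtain ⟨g, -, hg⟩ := mem_autInducedBy.1 hs
  refine mem_autInducedBy.2 ⟨φ (i * g * i⁻¹), trivial, fun x hx => ?_⟩
  have m := afn_mem α⁻¹ hx
  rw [afn_mul _ _ hx, afn_mul _ _ m, e5 _ (afn_mem s m), hg _ m]
  conv_rhs => rw [← afn_afn_inv α hx, e5 _ m, ← map_inv, ← map_mul, ← map_mul]
  congr 1
  group

theorem ess_Q (hF : F.IsSaturated 2) (hc : F.core = ⊥) : F.IsEssential 2 Qs := by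
  by_contra hQ
  refine nrm_bot hc (Q := As) (isNormal_of_essential pT hF ?_) rfl
  rintro R (rfl | hR)
  · refine ⟨le_top, fun g hg _ x hx => ?_⟩
    obtain ⟨φ, -, h4⟩ := exists_AS hg
    exact h4 x ▸ U5F.chr_mem φ hx
  obtain rfl | rfl | ⟨-, y, hy, rfl⟩ := ess hF hR
  · exact absurd hR hQ
  · exact ⟨le_rfl, fun g _ hi x hx => hi ▸ mem_img_of_mem g hx⟩
  · refine ⟨As_le_Ey, fun g hg hi x hx => ?_⟩
    obtain ⟨α, -, e⟩ := hg.exists_aut hi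
    exact e x (As_le_Ey hx) ▸ ch_Ey hy α x (As_le_Ey hx) hx

theorem not_ty0 (hF : F.IsSaturated 2) (hc : F.core = ⊥) : ¬ ∀ β ∈ F.autGroup As, ∀ t ∈ Tn As, β * t * β⁻¹ ∈ Tn As := by
  refine fun h => nrm_bot hc (Q := Qs) (isNormal_of_uniq pT hF (fun E hE => ?_) fun φ _ _ hx => U5F.chr_mem φ hx) rfl
  obtain rfl | rfl | ⟨-, y, hy, rfl⟩ := ess hF hE
  exacts [rfl, absurd h (U5F.lc_AS pT hF hE).nn, absurd hE (not_essE hF hy fun β hβ _ => h β hβ)]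

/-- A subgroup of order eight. -/
def nrm_R (y : K4) : Subgroup S4 where
  carrier := {u | u ∈ Ey y ∧ u.b = 0 ∧ u.w * σ y = σ u.w * y}
  mul_mem' h k := ⟨mul_mem h.1 k.1, by simp only [UE, h.2, k.2, add_mul, and_self]⟩
  one_mem' := ⟨one_mem _, by simp only [UE, and_self]⟩
  inv_mem' h := ⟨inv_mem h.1, by simp only [UE, h.2, neg_mul, and_self]⟩

theorem nrm_mem0 : ∀ u : S4, ∀ a b : ZMod 2, (⟨a, b⟩ : K4) ≠ 0 → u.y * σ ⟨a, b⟩ = σ u.y * ⟨a, b⟩ →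
    ((u.b = 0 ∧ u.w * σ ⟨a, b⟩ = σ u.w * ⟨a, b⟩) ↔
      (u.y = 0 ∧ u.b = 0 ∧ u.w * σ ⟨a, b⟩ = σ u.w * ⟨a, b⟩) ∨ (¬ u.y = 0 ∧ u * u = 1)) :=
  forall4.2 (by decide +kernel)

theorem nrm_mem {y : K4} (hy : y ≠ 0) {u : S4} (hu : u ∈ Ey y) : u ∈ nrm_R y ↔ u ∈ C0 y ∨ (u ∉ As ∧ u * u = 1) :=
  (and_iff_right hu).trans (nrm_mem0 u y.re y.im hy hu)

theorem nrm_C0 {K : Type*} [Field K] [Cj K] {y : K} (hy : y ≠ 0) : Ch (Ey y : Subgroup (U K)) (C0 y) :=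
  have g : Xy y ∈ Ey y := mul_comm _ _
  (U5F.ch_Zc _).congr fun _ k =>
    ⟨fun hz => let ⟨a, b⟩ := zc_C0 (Z2_le_As.trans As_le_Ey) g hy hz; ⟨a.1, a.2, b _ g⟩,
      fun hz => U5F.mem_Zc.2 ⟨k, fun _ hk => (com_C0 hy hk hz).symm⟩⟩

theorem nrm_ch {y : K4} (hy : y ≠ 0) : Ch (Ey y : Subgroup S4) (nrm_R y) := by
  intro α u hu h
  have m := afn_mem α hu
  rw [nrm_mem hy hu] at h
  rw [nrm_mem hy m]
  refine h.imp (nrm_C0 hy α u hu) fun k => ⟨fun a => k.1 ?_, ?_⟩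
  · rw [← homOn_afn α _ hu _ hu, k.2, (homOn_afn α).map_one]
  · have := ch_Ey hy α⁻¹ _ m a
    rwa [afn_inv_afn α hu] at this

theorem not_ty1 (hF : F.IsSaturated 2) (hc : F.core = ⊥) {y : K4} (hy : y ≠ 0) :
    ¬ ∀ β ∈ F.autGroup As, β * cA (Xy y) = cA (Xy y) * β := by
  intro h
  have k : ∀ φ ∈ AS F, ∀ x ∈ nrm_R y, φ x ∈ nrm_R y := fun φ hφ x hx => by
    obtain ⟨α, -, e⟩ := exists_res_AS hφ (nrm_φ hy (h _ (U5F.res_mem hφ)))
    exact e x hx.1 ▸ nrm_ch hy α x hx.1 hx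
  refine nrm_bot hc (Q := nrm_R y) (isNormal_of_essential pT hF ?_) ⟨As_le_Ey rfl, rfl, (Z1_le_C0 ⟨rfl, rfl, rfl⟩).2.2⟩
  rintro R (rfl | hR)
  · refine ⟨le_top, fun g hg _ x hx => ?_⟩
    obtain ⟨φ, h3, h4⟩ := exists_AS hg
    exact h4 x ▸ k φ h3 x hx
  obtain rfl | rfl | ⟨-, y', hy', rfl⟩ := ess hF hR
  · refine ⟨fun x hx => hx.2.1, fun g hg hi x hx => ?_⟩
    obtain ⟨α, hα, e⟩ := hg.exists_aut hi
    have m : x ∈ Qs := hx.2.1
    rw [← e x m]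
    obtain ⟨φ, h1, rfl | ⟨g, rfl⟩⟩ := genQ2 (U5F.sa_AS pT hF) (U5F.lc_AS pT hF hR) hα
    · exact (U5F.afn_res φ m).symm ▸ k φ h1 x hx
    · have a := k φ h1 x hx
      rw [afn_mul _ _ m, afn_mul _ _ (afn_mem _ m), U5F.afn_res φ m, ωQ_eq, afn_ω0 a.2.1, U5F.afn_res _ (ω_mem _)]
      exact k _ (conj_mem_AS F g) _ ⟨a.2.2, rfl, a.1⟩
  · have sq : cA (Xy y) ^ 2 ^ 1 = 1 := by
      rw [pow_one, sq, ← cA_mul, cA_congr (h := 1) (by simp only [UE]; linear_combination y * two_eq), cA, map_one, map_one]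
    obtain ⟨g, hg, e⟩ := U5F.mem_Inn'.1 ((U5F.lc_AS pT hF hR).rad (zpowers (cA (Xy y)))
      (by
        rintro ⟨_, n, rfl⟩
        refine ⟨1, Subtype.ext ?_⟩
        change (cA (Xy y) ^ n) ^ 2 ^ 1 = 1
        rw [← zpow_natCast, zpow_comm, zpow_natCast, sq, _root_.one_zpow])
      (zpowers_le.2 (U5F.res_mem (conj_mem_AS F _))) (by
        rintro α hα _ ⟨n, rfl⟩
        exact ⟨n, eq_mul_inv_of_mul_eq (Commute.zpow_right (h α hα) n).eq.symm⟩) (mem_zpowers _))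
    exact absurd ((nrm_cA e).symm.trans hg) hy
  by_cases e : y' = y
  · subst e
    refine ⟨fun x hx => hx.1, fun g hg hi x hx => ?_⟩
    obtain ⟨α, -, e⟩ := hg.exists_aut hi
    exact e x hx.1 ▸ nrm_ch hy α x hx.1 hx
  refine absurd hR (not_essE hF hy' fun β hβ c t ht => ?_)
  suffices Commute β t by rwa [this.eq, mul_inv_cancel_right]
  obtain ⟨g, rfl⟩ := U5F.mem_Tn.1 ht
  change Commute β (cA g)
  rcases nrm_K.2 y y' g.y hy hy' e with a | a | a | a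
  · rw [cA_congr (h := 1) a, cA, map_one, map_one]
    exact Commute.one_right β
  · exact (cA_congr (g := g) (h := Xy y) a).symm ▸ h β hβ
  · exact (cA_congr (g := g) (h := Xy y') a).symm ▸ c
  · rw [cA_congr (h := Xy y * Xy y') a, cA_mul]
    exact Commute.mul_right (h β hβ) c

end Cfsg.Agent.U4W
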