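import Cfsg.Agent.U4W.Mod
import Cfsg.Agent.U4W.Nrm

/-! Saturated fusion systems with trivial core on the Sylow `2`-subgroup of `SU₄(2)` are realizable (S5210, `q = 2`). -/

set_option autoImplicit false

namespace Cfsg.Agent.U4W

open Subgroup Cfsg.Agent.RFS Cfsg.Agent.Fus Cfsg.Agent.U4F Cfsg.FusionSystem Cfsg.Agent.SpF
open Cfsg.Agent.U5F (Cj σ SA Tn Lc sa_AS lc_AS)

theorem real4 {F : FusionSystem (⊤ : Subgroup S4)} (hF : F.IsSaturated 2) (hc : F.core = ⊥) : F.IsRealizable 2 := by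
  have L := lj_AS hF
  have hω := ω_mem2 (sa_AS pT hF) (lc_AS pT hF (ess_Q hF hc))
  obtain ⟨k, hk, t⟩ := L.exists_ty
  rcases Nat.eq_zero_or_pos k with rfl | h0
  · exact absurd (fun β hβ => Lj.ty0 t β hβ L) (not_ty0 hF hc)
  rcases lt_or_ge k 7 with h7 | h7
  · obtain ⟨y, hy, h⟩ := L.ty1 t h0 h7
    exact absurd h (not_ty1 hF hc hy)
  obtain ⟨F', a, b, c, d, e⟩ := exists_model2 hk h7
  have L' := lj_AS b
  obtain ⟨k', hk', t'⟩ := L'.exists_ty
  obtain ⟨u1, u2, u⟩ := uniq k hk h7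
  obtain rfl := u k' hk' ((t' _ u1).1 d) ((t' _ u2).1 e)
  rwa [fs_le_antisymm (le2 hF b c (L.ty_le t t' h7 hk)) (le2 b hF hω (L'.ty_le t' t h7 hk))]

theorem exists_trans {K : Type*} [Field K] [Cj K] (h : Cj.q K = 2) : Nonempty (U K ≃* S4) := by
  have := Fintype.ofFinite K
  have e : K ≃+* K4 := Class.ringEquivGF4 (by rw [← Nat.card_eq_fintype_card, card_K, h]; rfl)
  have k : ∀ x, e (σ x) = σ (e x) := fun x => by
    change e (x ^ Cj.q K) = e x ^ 2
    rw [h, map_pow]
  have k' : ∀ x, e.symm (σ x) = σ (e.symm x) := fun x => e.injective (by rw [k, e.apply_symm_apply, e.apply_symm_apply])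
  exact ⟨{
    toFun := fun u => ⟨e u.y, e u.b, e u.w, e u.c, by rw [← k, u.hb, map_neg], by rw [← k, u.hc, map_neg]⟩
    invFun := fun u => ⟨e.symm u.y, e.symm u.b, e.symm u.w, e.symm u.c, by rw [← k', u.hb, map_neg], by rw [← k', u.hc, map_neg]⟩
    left_inv := fun u => U.ext (e.symm_apply_apply _) (e.symm_apply_apply _) (e.symm_apply_apply _) (e.symm_apply_apply _)
    right_inv := fun u => U.ext (e.apply_symm_apply _) (e.apply_symm_apply _) (e.apply_symm_apply _) (e.apply_symm_apply _)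
    map_mul' := fun u v => by apply U.ext <;> simp only [UE, map_add, map_sub, map_mul, k] }⟩

theorem real_two {K : Type*} [Field K] [Cj K] (hq : Cj.q K = 2) {F : FusionSystem (⊤ : Subgroup (U K))}
    (hF : F.IsSaturated 2) (hc : F.core = ⊥) : F.IsRealizable 2 := by
  obtain ⟨e⟩ := exists_trans hq
  obtain ⟨F₁, h⟩ := exists_push' (F' := F) e
  exact isRealizable_of_push h (real4 (h.saturated hF) (by_contra fun k => core_ne_of_push h.symm k hc))

end Cfsg.Agent.U4W
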