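import Cfsg.Agent.U4W.Def
import Cfsg.Agent.U4F.QD
import Cfsg.Agent.U4F.QB0

/-!
The automizer of `Q` (S5210, `q = 2`).

`OQ_le`: as `U4K.rm_ker`.  `α ∈ OQ` fixes `Z1` (`OQ_Z1`), `afn α e ∈ {e, e * gZ}` for `e = gA, gB, gU, gW`; there is `g ∈ Qs` with the same action on the four
generators (`decide`), which generate `Qs`; `mem_Inn'`.
`std2`: copy the proof of `U4F.stdQ` (`tau_act` gives `ν = 0` as `2 = 0`; only `G.cj`, `G.oq` are used), `b = ϑ`.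
`graph2`: `graph` with `nonperp2`.  `ω_mem2`: `exists_not_PQ`, `graph2`, `std2` for `cQ (Xb γ) * α`, `OQ_le`, `inn_le_Tn`.  `genQ2`: `genQ_of`.
-/

set_option autoImplicit false
set_option linter.unusedSimpArgs false

namespace Cfsg.Agent.U4W

open Subgroup Matrix Cfsg.Agent.RFS Cfsg.Agent.Fus Cfsg.Agent.U4F
open Cfsg.Agent.U5F (Cj σ SA Tn Lc)

variable {A₀ : Subgroup (MulAut S4)} {A : Subgroup (MulAut (Qs : Subgroup S4))} {α : MulAut (Qs : Subgroup S4)}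

/-- The four generators of `Q`. -/
def qq_e : Fin 4 → S4 := ![gA, gB, gU, gW]

theorem qq_eQ (j : Fin 4) : qq_e j ∈ Qs := by fin_cases j <;> rfl

theorem qq_ext {α β : MulAut (Qs : Subgroup S4)} (h : ∀ j, afn α (qq_e j) = afn β (qq_e j)) : α = β := by
  have c : ∀ y₁ y₂ w₁ w₂ c : ZMod 2, ∃ n < 2, mk4 y₁ y₂ 0 w₁ w₂ c =
      qq_e 0 ^ y₁.val * qq_e 1 ^ y₂.val * qq_e 2 ^ w₁.val * qq_e 3 ^ w₂.val * cm (qq_e 0) (qq_e 3) ^ n := by decide +kernel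
  let T : Subgroup S4 := (α.toMonoidHom.eqLocus β.toMonoidHom).map (Subgroup.subtype _)
  have m : ∀ j, qq_e j ∈ T := fun j => ⟨⟨_, qq_eQ j⟩, Subtype.ext (by
    have := h j
    rwa [afn_apply _ (qq_eQ j), afn_apply _ (qq_eQ j)] at this), rfl⟩
  ext1 u
  obtain ⟨n, -, e⟩ := c u.1.y.re u.1.y.im u.1.w.re u.1.w.im u.1.c.re
  have e' := exists_mk4 u.1
  rw [mem_Qs.1 u.2, QuadraticAlgebra.re_zero, e] at e'
  obtain ⟨v, hv, k⟩ : u.1 ∈ T := by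
    rw [e']
    exact mul_mem (mul_mem (mul_mem (mul_mem (pow_mem (m _) _) (pow_mem (m _) _)) (pow_mem (m _) _)) (pow_mem (m _) _))
      (pow_mem (cm_mem (m _) (m _)) _)
  obtain rfl : v = u := Subtype.ext k
  exact hv

theorem two_eq : (2 : K4) = 0 := by
  exact CharP.cast_eq_zero K4 2

theorem OQ_le : OQ K4 ≤ Inn (Qs : Subgroup S4) := by
  intro α h
  have c : ∀ d : Fin 4 → ZMod 2, ∃ a b c e : ZMod 2, ∀ j,
      (mk4 a b 0 c e 0 * qq_e j * (mk4 a b 0 c e 0)⁻¹).c.re = d j := by decide +kernel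
  obtain ⟨a, b, c, e, k⟩ := c fun j => (afn α (qq_e j)).c.re
  have hg : mk4 a b 0 c e 0 ∈ Qs := rfl
  refine U5F.mem_Inn'.2 ⟨_, hg, qq_ext fun j => ?_⟩
  obtain ⟨a1, b1⟩ := mem_OQ.1 (cQ_mem_OQ.2 hg) _ (qq_eQ j)
  obtain ⟨a2, b2⟩ := mem_OQ.1 h _ (qq_eQ j)
  refine U.ext (a1.trans a2.symm) ((afn_mem _ (qq_eQ j)).trans (afn_mem α (qq_eQ j)).symm) (b1.trans b2.symm)
    (QuadraticAlgebra.ext ?_ ((im_eq_zero (U.hc _)).trans (im_eq_zero (U.hc _)).symm))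
  rw [afn_cQ _ (qq_eQ j), k]

theorem std2 (h1 : ∀ g, cQ g ∈ A) (h2 : OQ K4 ≤ A) (hα : α ∈ A) (h : ∀ x ∈ Z2, (afn α x).w = 0) : ωQ K4 ∈ A := by
  have t : ∀ (b : K4) (hb : σ b = -b), ∃ μ, σ μ = -μ ∧ ∀ u ∈ Qs, (afn (α * cQ (Xb b hb) * α⁻¹) u).y = u.y + μ * u.w ∧
      (afn (α * cQ (Xb b hb) * α⁻¹) u).w = u.w := fun b hb => by
    obtain ⟨μ, ν, h1, h2, k⟩ := tau_act h hb
    obtain rfl : ν = 0 := h2 two_eq
    exact ⟨μ, h1, by simpa only [zero_mul, add_zero] using k⟩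
  choose μ hμ k using t
  have hb : σ ((ϑ : K4ˣ) : K4) = -(ϑ : K4ˣ) := σϑ
  rw [ωQ]
  generalize (ϑ : K4ˣ) = b at hb ⊢
  obtain ⟨b₁, hb₁, e⟩ := surj_pure μ hμ (fun b hb b' hb' e => by
    have hu := afn_mem α (x := Xy 1) rfl
    have a := qc_conj α hb hu
    have a' := qc_conj α hb' hu
    rw [(k _ _ _ hu).1, (k _ _ _ hu).2, afn_inv_afn _ (x := Xy 1) rfl] at a a'
    have c := qc_inj α (u := Xw (-(b * (Xy 1).y))) (v := Xw (-(b' * (Xy 1).y))) rfl rfl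
      ⟨by rw [e] at a; exact add_left_cancel (a'.1.symm.trans a.1), add_left_cancel (a'.2.symm.trans a.2)⟩
    simpa only [UE, neg_inj] using c.2.symm) (c := -b) (by simp only [UE, hb])
  have hT : α * cQ (Xb b₁ hb₁) * α⁻¹ ∈ A := mul_mem (mul_mem hα (h1 _)) (inv_mem hα)
  have ho : (α * cQ (Xb b₁ hb₁) * α⁻¹)⁻¹ * (ω0 K4 * cQ (Xb (b : K4) hb) * ω0 K4) ∈ OQ K4 := mem_OQ.2 fun x hx => by
    have a := congQ (α * cQ (Xb b₁ hb₁) * α⁻¹)⁻¹ (afn_mem (α * cQ (Xb b₁ hb₁) * α⁻¹) hx)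
      (afn_mem (ω0 K4 * cQ (Xb (b : K4) hb) * ω0 K4) hx) (by
        rw [(k _ _ _ hx).1, (k _ _ _ hx).2, e, afn_mul _ _ hx, afn_ω0 hx, afn_mul _ _ (ω_mem _), afn_ω0 (afn_mem _ (ω_mem _))]
        have c := cjQ (Xb (b : K4) hb) (ω_mem x)
        refine ⟨c.2.trans ?_, c.1⟩
        simp only [ω, UE]
        ring)
    rwa [afn_inv_afn _ hx, ← afn_mul _ _ hx] at a
  have hm := mul_mem hT (h2 ho)
  have h' : σ (b : K4)⁻¹ = -(b : K4)⁻¹ := by simp only [UE, hb, inv_neg]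
  rw [mul_inv_cancel_left, ω_rel hb (h' := h')] at hm
  exact (A.mul_mem_cancel_left (h1 _)).1 ((A.mul_mem_cancel_right (h1 _)).1 hm)

theorem graph2 (h₀ : SA 2 A₀) (L : Lc 2 A₀ Qs A) (hα : α ∈ A) (hn : ¬ PQ α) :
    ∃ γ : K4, σ γ = -γ ∧ ∀ x ∈ Z2, (afn α x).w = γ * (afn α x).y := by
  obtain ⟨γ, n, hγ, h2, k⟩ := graph (α := α) fun x hx e => by_contra fun c => hn (nonperp2 two_eq h₀ L hα hx c e)
  exact ⟨γ, hγ, fun x hx => by rw [k x hx, h2 two_eq, zero_mul, add_zero]⟩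

theorem ω_mem2 (h₀ : SA 2 A₀) (L : Lc 2 A₀ Qs A) : ωQ K4 ∈ A := by
  obtain ⟨α, hα, hn⟩ := exists_not_PQ h₀ L
  obtain ⟨γ, hγ, k⟩ := graph2 h₀ L hα hn
  refine std2 (L.cj h₀) (OQ_le.trans (U5F.inn_le_Tn.trans (L.Tn_le h₀))) (A.mul_mem (L.cj h₀ (Xb γ hγ)) hα) fun x hx => ?_
  rw [afn_mul _ _ hx.2, (cjQ _ (afn_mem _ hx.2)).2, k x hx]
  simp only [UE, sub_self]

theorem genQ2 (h₀ : SA 2 A₀) (L : Lc 2 A₀ Qs A) (hα : α ∈ A) : ∃ φ ∈ A₀, α = rQ φ ∨ ∃ g, α = cQ g * ωQ K4 * rQ φ := by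
  exact genQ_of h₀ L (ω_mem2 h₀ L) hα (graph2 h₀ L hα)

/-- `ϑ = 1` since `ϑ` is a nonzero pure element (`im_eq_zero`), `g2_one`. -/
theorem ωQ_eq : ωQ K4 = ω0 K4 := by
  have e : (ϑ : K4ˣ) = 1 := Units.ext ((by decide : ∀ x : K4, x.im = 0 → x ≠ 0 → x = 1) _ (im_eq_zero σϑ) (Units.ne_zero _))
  rw [ωQ, e, g2_one, map_one, mul_one]

end Cfsg.Agent.U4W
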