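import Cfsg.Agent.U4W.Rho
import Cfsg.Agent.U4W.QQ
import Cfsg.Agent.U4F.Fin

/-! The models `U₄(2)` and `L₄(2)` (S5210, `q = 2`). -/

set_option autoImplicit false
set_option linter.unusedSimpArgs false

namespace Cfsg.Agent.U4W

open Subgroup Matrix Cfsg.Agent.RFS Cfsg.Agent.Fus Cfsg.Agent.U4F Cfsg.FusionSystem Cfsg.Agent.SpF
open Cfsg.Agent.U5F (Cj σ SA Tn Lc chr_mem)

theorem exists_fus4 {G : Type} [Group G] [Finite G] {ι : S4 →* G} (hι : Function.Injective ι) (hi : ¬ 2 ∣ ι.range.index) :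
    ∃ F : FusionSystem (⊤ : Subgroup S4), F.IsRealizable 2 ∧ F.IsSaturated 2 ∧
      ∀ (E : Subgroup S4) (f : S4 → S4) (g : G), (∀ u ∈ E, g * ι u * g⁻¹ = ι (f u)) → IsMap F E f := by
  let j := ι.comp (⊤ : Subgroup S4).subtype
  have hr : j.range = ι.range := by rw [MonoidHom.range_comp, range_subtype, ← MonoidHom.range_eq_map]
  obtain ⟨b, hb⟩ := gIso_of_injective j (hι.comp Subtype.val_injective)
  obtain ⟨F₀, h⟩ := exists_fIso (groupFusionSystem j.range) hb.symm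
  have h3 : F₀.IsRealizedBy j := isRealizedBy_of_fIso h.symm fun x => (hfn_apply j x.2).symm
  have h4 : ∃ T : Sylow 2 G, (T : Subgroup G) = j.range :=
    ⟨((isPGroup_U 2).of_surjective _ ι.rangeRestrict_surjective).toSylow hi, hr.symm⟩
  have e : ∀ x, hfn j x = ι x := fun x => hfn_apply j (mem_top x)
  exact ⟨F₀, isRealizable_of_isRealizedBy h3 h4, saturated_of_isRealizedBy h3 h4, fun P f g hg =>
    IsRealizedBy_isMap h3 le_top (fun _ _ => trivial) g fun z hz => by rw [e, e, hg z hz]⟩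

/-- `g` induces `f` on `E`. -/
def In4 {G : Type} [Group G] (ι : S4 →* G) (E : Subgroup S4) (f : S4 → S4) : Prop := ∃ g, ∀ u ∈ E, g * ι u * g⁻¹ = ι (f u)

theorem γ_ω : ∀ k < 15, 7 ≤ k → ∀ u : S4, u.b = 0 → γ k (ω u) = ω (γ k u) := fun k h1 h2 => forall4.2 (by
  revert k
  decide +kernel)

theorem model_of {G : Type} [Group G] [Finite G] {ι : S4 →* G} (hι : Function.Injective ι) (hi : ¬ 2 ∣ ι.range.index)
    (hω : In4 ι Qs ω) {k : ℕ} (h1 : k < 15) (h2 : 7 ≤ k) :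
    ∃ F : FusionSystem (⊤ : Subgroup S4), F.IsRealizable 2 ∧ F.IsSaturated 2 ∧ ωQ K4 ∈ F.autGroup Qs ∧
      ∀ f, In4 ι As f → (∀ u ∈ As, f u ∈ As) → ∃ β ∈ F.autGroup As, ra β = rf fun u => (γ k)⁻¹ (f (γ k u)) := by
  have hr : (ι.comp (γ k).toMonoidHom).range = ι.range := by
    rw [MonoidHom.range_comp, MonoidHom.range_eq_top.2 (γ k).surjective, ← MonoidHom.range_eq_map]
  obtain ⟨F, a, b, c⟩ := exists_fus4 (ι := ι.comp (γ k).toMonoidHom) (hι.comp (γ k).injective) (hr ▸ hi)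
  obtain ⟨w, hw⟩ := hω
  refine ⟨F, a, b, mem_autGroup_of_isMap (c Qs ω w fun u hu => ?_) fun x hx => by rw [ωQ_eq, afn_ω0 hx], fun f ⟨g, hg⟩ hf => ?_⟩
  · exact (hw _ (chr_mem (γ k) hu)).trans (congrArg ι (γ_ω k h1 h2 u hu).symm)
  · obtain ⟨β, d, e⟩ := (c As (fun u => (γ k)⁻¹ (f (γ k u))) g fun u hu => (hg _ (chr_mem (γ k) hu)).trans
      (congrArg ι ((γ k).apply_symm_apply _).symm)).exists_aut' fun x hx => chr_mem _ (hf _ (chr_mem _ hx))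
    exact ⟨β, d, ra_eq e⟩

/-- The embedding in `L₄(2)`. -/
def mt (u : S4) : M2 :=
  !![1, u.y.re, u.w.re + u.b.re, (u.w.re + u.b.re) * u.y.im + u.c.re; 0, 1, u.b.re, u.b.re * u.y.im + (u.w.im + u.b.re);
    0, 0, 1, u.y.im; 0, 0, 0, 1]

theorem mul4 (u v : S4) : (u * v).y.re = u.y.re + v.y.re ∧ (u * v).y.im = u.y.im + v.y.im ∧ (u * v).b.re = u.b.re + v.b.re ∧
    (u * v).w.re = u.w.re + v.w.re + u.y.re * v.b.re ∧ (u * v).w.im = u.w.im + v.w.im + u.y.im * v.b.re ∧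
    (u * v).c.re = u.c.re + v.c.re + u.y.re * v.w.im + u.y.im * v.w.re + (u.y.re + u.y.im + u.y.re * u.y.im) * v.b.re := by
  simp only [UE, σ4]
  simp [im_eq_zero v.hb]
  generalize u.y.re = a, u.y.im = b, v.w.re = c, v.w.im = d, v.b.re = e, u.c.re + v.c.re = f
  revert a b c d e f
  decide +kernel

theorem mt_mul (u v : S4) : mt (u * v) = mt u * mt v := by
  obtain ⟨a, b, c, d, e, f⟩ := mul4 u v
  have k : ∀ x : ZMod 2, x * x = x := by decide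
  have := k u.y.re
  have := k u.y.im
  have := k v.b.re
  ext i j
  fin_cases i <;> fin_cases j <;> simp [mt, a, b, c, d, e, f, Matrix.mul_apply, Fin.sum_univ_four] <;> grind

theorem mt_inj : ∀ u : S4, mt u = 1 → u = 1 := forall4.2 (by decide +kernel)

/-- The embedding in `L₄(2)`. -/
def ιL : S4 →* GL (Fin 4) (ZMod 2) := MonoidHom.toHomUnits ⟨⟨mt, by decide +kernel⟩, mt_mul⟩

theorem ιL_inj : Function.Injective ιL := (injective_iff_map_eq_one _).2 fun u h => mt_inj u (congrArg Units.val h)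

theorem ιL_index : ¬ 2 ∣ ιL.range.index := by
  have := ιL.range.card_mul_index
  rw [← Nat.card_congr (MonoidHom.ofInjective ιL_inj).toEquiv, card_U, card_GL_field, ZMod.card, Fin.prod_univ_four] at this
  change 2 ^ 6 * _ = 20160 at this
  omega

theorem in_L {E : Subgroup S4} {f : S4 → S4} (P : M2) (hP : P * P = 1) (h : ∀ u ∈ E, P * mt u * P = mt (f u)) : In4 ιL E f :=
  ⟨⟨P, P, hP, hP⟩, fun u hu => Units.ext (h u hu)⟩

theorem L_ω : In4 ιL Qs ω := in_L !![1, 0, 0, 0; 0, 0, 1, 0; 0, 1, 0, 0; 0, 0, 0, 1] (by decide +kernel)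
  (show ∀ u : S4, u.b = 0 → _ from forall4.2 (by decide +kernel))

theorem L_s1 : In4 ιL As s1 := in_L !![0, 1, 0, 0; 1, 0, 0, 0; 0, 0, 1, 0; 0, 0, 0, 1] (by decide +kernel)
  (show ∀ u : S4, u.y = 0 → _ from forall4.2 (by decide +kernel))

theorem L_s2 : In4 ιL As s2 := in_L !![1, 0, 0, 0; 0, 1, 0, 0; 0, 0, 0, 1; 0, 0, 1, 0] (by decide +kernel)
  (show ∀ u : S4, u.y = 0 → _ from forall4.2 (by decide +kernel))

theorem rf_s : ∀ k < 13, 7 ≤ k → (rf fun u => (γ k)⁻¹ (s1 (γ k u))) = Iv (i1 k) ∧ (rf fun u => (γ k)⁻¹ (s2 (γ k u))) = Iv (i2 k) := by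
  decide +kernel

theorem rf_ψ : ∀ k < 15, 13 ≤ k → (rf fun u => (γ k)⁻¹ (ψ (γ k u))) = Iv (i1 k) ∧ i2 k = i1 k := by
  decide +kernel

theorem exists_model2 {k : ℕ} (h1 : k < 15) (h2 : 7 ≤ k) : ∃ F : FusionSystem (⊤ : Subgroup S4), F.IsRealizable 2 ∧ F.IsSaturated 2 ∧
    ωQ K4 ∈ F.autGroup Qs ∧ (∃ β ∈ F.autGroup As, ra β = Iv (i1 k)) ∧ ∃ β ∈ F.autGroup As, ra β = Iv (i2 k) := by
  rcases lt_or_ge k 13 with h | h
  · obtain ⟨F, a, b, c, d⟩ := model_of ιL_inj ιL_index L_ω h1 h2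
    exact ⟨F, a, b, c, (rf_s k h h2).1 ▸ d s1 L_s1 fun _ _ => rfl, (rf_s k h h2).2 ▸ d s2 L_s2 fun _ _ => rfl⟩
  · obtain ⟨G, _, _, ι, hι, hi, ⟨w, hw⟩, hn, -⟩ := exists_mod (K := K4) (p := 2) (Θ := ⊥) bot_le (by simp)
    obtain ⟨F, a, b, c, d⟩ := model_of hι hi ⟨w, fun u hu => by rw [hw u hu, ωQ_eq, afn_ω0 hu]⟩ h1 h2
    have e := (rf_ψ k h1 h).1 ▸ d ψ hn fun _ _ => rfl
    exact ⟨F, a, b, c, e, (rf_ψ k h1 h).2 ▸ e⟩

end Cfsg.Agent.U4W
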