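import Cfsg.Agent.U4W.Cert

/-!
The automizer of `J` (S5210, `q = 2`); `U4K/RhoA`, `U4K/RhoB` are the models.

`ra_vec`: `vec` is additive on `As` (`mulA`), `u = gC^b gU^w₁ gW^w₂ gZ^c`.  `ra_inj`: `vec` is injective on `As`.  `ra_cA`: `afn_cA`, `forall4`, `decide +kernel`.
`sy`: `M = B.toSubmonoid.map raH`.  `o4`: `zpowers β` is a `2`-group, `L.syl.exists_conj`, elements of `Tn As` have square one.  `cm`: `β` commutes with
`Tn As`, `Tn As ⊔ zpowers β` is a `2`-group (all elements commute and have square one, or `IsPGroup.to_sup_of_normal_left'`-type lemma; or the subgroup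
`{t, t * β}`), `L.syl.eq_of_le`.
`frat`: for `α ∈ B`, `α (Tn As) α⁻¹ ≤ D = B ⊓ B'` (`cover`), `Tn As` is Sylow in `D` (`SylIn.of_le`), `exists_conj` gives `d ∈ D` with `g = d * α` normalising
`Tn As`; `nrm` (conjugates of `cA gA`, `cA gB` are not `1`): `g = t * rA hS ^ a`; if `a ≠ 0` then `rA hS ∈ B` (`hh_cube`).
`ty0`: `cover`, `CC_zero`.  `ty1`: `frat` with `B' = centralizer {cA (Xy y)}`, `cen`, `not_hh`.  `ty_le`: `frat`, `not_hh`, `hh_mem`.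
-/

set_option autoImplicit false
set_option linter.unusedSimpArgs false

namespace Cfsg.Agent.U4W

open Subgroup Matrix Cfsg.Agent.RFS Cfsg.Agent.Fus Cfsg.Agent.U4F
open Cfsg.Agent.U5F (Cj σ SA Tn Lc)

variable {B B' : Subgroup (MulAut (As : Subgroup S4))}

/-- The four generators of `J`. -/
def rh_e : Fin 4 → S4 := ![gC, gU, gW, gZ]

theorem rh_eA (j : Fin 4) : rh_e j ∈ As := by fin_cases j <;> rfl

theorem rh_ra (α : MulAut (As : Subgroup S4)) (i j : Fin 4) : ra α i j = vec (afn α (rh_e j)) i := rfl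

/-- A section of `vec`. -/
def rh_q (x : V2) : S4 := mk4 0 0 (x 0) (x 1) (x 2) (x 3)

theorem rh_qA (x : V2) : rh_q x ∈ As := rfl

theorem rh_vq (x : V2) : vec (rh_q x) = x := by ext i; fin_cases i <;> rfl

theorem rh_qv {u : S4} (hu : u ∈ As) : rh_q (vec u) = u := by
  have e := exists_mk4 u
  rw [mem_As.1 hu] at e
  exact e.symm

theorem rh_vec_mul {u v : S4} (hu : u ∈ As) : vec (u * v) = vec u + vec v := by
  ext i
  fin_cases i <;> simp [vec, mulA hu]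

theorem ra_vec (α : MulAut (As : Subgroup S4)) {u : S4} (hu : u ∈ As) : ra α *ᵥ vec u = vec (afn α u) := by
  let f : V2 →+ V2 := AddMonoidHom.mk' (fun x => vec (afn α (rh_q x))) fun x y => by
    rw [← rh_vec_mul (afn_mem α (rh_qA x)), ← homOn_afn α _ (rh_qA x) _ (rh_qA y),
      ← rh_qv (mul_mem (rh_qA x) (rh_qA y)), rh_vec_mul (rh_qA x), rh_vq, rh_vq]
  have e : ra α = LinearMap.toMatrix' (f.toZModLinearMap 2) := by
    ext i j
    rw [LinearMap.toMatrix'_apply, rh_ra, show rh_e j = rh_q (Pi.single j 1) by revert j; decide +kernel]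
    rfl
  rw [e, LinearMap.toMatrix'_mulVec]
  exact congrArg (fun x => vec (afn α x)) (rh_qv hu)

theorem ra_mul (α β : MulAut (As : Subgroup S4)) : ra (α * β) = ra α * ra β := by
  ext i j
  rw [rh_ra, afn_mul _ _ (rh_eA j), ← ra_vec α (afn_mem β (rh_eA j))]
  rfl

theorem ra_one : ra 1 = 1 := by
  have c : (Matrix.of fun i j => vec (rh_e j) i) = (1 : M2) := by decide +kernel
  rw [← c]
  ext i j
  rw [rh_ra, afn_one]
  rfl

theorem ra_inj : Function.Injective ra := by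
  refine fun α β h => aut_ext fun x hx => ?_
  rw [← rh_qv (afn_mem α hx), ← rh_qv (afn_mem β hx), ← ra_vec α hx, ← ra_vec β hx, h]

theorem ra_eq {α : MulAut (As : Subgroup S4)} {f : S4 → S4} (h : ∀ u ∈ As, afn α u = f u) : ra α = rf f := by
  ext i j
  rw [rh_ra, h _ (rh_eA j)]
  rfl

theorem ra_gA : ra (cA gA) = Iv 0 ∧ ra (cA gB) = Iv 1 ∧ ra (cA (gA * gB)) = Iv 2 ∧ ra (rA hS) = hh := by
  rw [ra_eq fun _ hu => afn_cA gA hu, ra_eq fun _ hu => afn_cA gB hu, ra_eq fun _ hu => afn_cA (gA * gB) hu,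
    ra_eq fun _ hu => U5F.afn_res hS hu]
  decide +kernel

theorem ra_cA (g : S4) : ra (cA g) = 1 ∨ ∃ i < 3, ra (cA g) = Iv i := by
  rw [ra_eq fun _ hu => afn_cA g hu]
  revert g
  exact forall4.2 (by decide +kernel)

/-- `ra` as a homomorphism. -/
noncomputable def raH : MulAut (As : Subgroup S4) →* M2 := ⟨⟨ra, ra_one⟩, ra_mul⟩

theorem rh_pow (α : MulAut (As : Subgroup S4)) (n : ℕ) : ra (α ^ n) = ra α ^ n := map_pow raH α n

theorem rh_inv (α : MulAut (As : Subgroup S4)) : ra α * ra α⁻¹ = 1 := by rw [← ra_mul, mul_inv_cancel, ra_one]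

theorem rh_one {α : MulAut (As : Subgroup S4)} (h : ra α = 1) : α = 1 := ra_inj (h.trans ra_one.symm)

theorem rh_Iv : ∀ i < 3, Iv i ^ 2 = 1 ∧ Iv i ≠ 1 := by decide +kernel

theorem rh_ex {i : ℕ} (hi : i < 3) : ∃ t ∈ Tn As, ra t = Iv i := by
  interval_cases i
  exacts [⟨_, ⟨_, rfl⟩, ra_gA.1⟩, ⟨_, ⟨_, rfl⟩, ra_gA.2.1⟩, ⟨_, ⟨_, rfl⟩, ra_gA.2.2.1⟩]

theorem rh_Tn {t : MulAut (As : Subgroup S4)} : t ∈ Tn As ↔ ra t = 1 ∨ ∃ i < 3, ra t = Iv i := by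
  refine ⟨by rintro ⟨g, rfl⟩; exact ra_cA g, ?_⟩
  rintro (h | ⟨i, hi, h⟩)
  · exact rh_one h ▸ one_mem _
  · obtain ⟨s, hs, e⟩ := rh_ex hi
    exact ra_inj (e.trans h.symm) ▸ hs

theorem rh_pg {G : Type*} [Group G] {β : G} {n : ℕ} (h : β ^ 2 ^ n = 1) : IsPGroup 2 (zpowers β) := by
  rintro ⟨_, k, rfl⟩
  refine ⟨n, Subtype.ext ?_⟩
  change (β ^ k) ^ 2 ^ n = 1
  rw [← _root_.zpow_natCast, ← _root_.zpow_mul, mul_comm, _root_.zpow_mul, _root_.zpow_natCast, h, _root_.one_zpow]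

theorem rh_cover (α : MulAut (As : Subgroup S4)) {t : MulAut (As : Subgroup S4)} (ht : t ∈ Tn As) :
    α * t * α⁻¹ = 1 ∨ ∃ i < 210, ra (α * t * α⁻¹) = Iv i := by
  rcases rh_Tn.1 ht with h | ⟨j, hj, h⟩
  · exact .inl (by rw [rh_one h, mul_one, mul_inv_cancel])
  · rw [ra_mul, ra_mul, h]
    exact .inr (cover (rh_inv α) j hj)

theorem rh_not {k : ℕ} (h : Ty B k) (h1 : 1 ≤ k) (h2 : k < 13) : rA hS ∉ B := fun m => by
  obtain ⟨i, hi, j, hj, c1, c2, e⟩ := not_hh k h2 h1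
  obtain ⟨β, hβ, e'⟩ := (h i hi).2 c1
  have := (h j hj).1 ⟨_, mul_mem (mul_mem m hβ) (pow_mem m 2), by
    rw [ra_mul, ra_mul, rh_pow, ra_gA.2.2.2, e', e]⟩
  rw [c2] at this
  exact Bool.noConfusion this

theorem Lj.sy (L : Lj B) : Sy (B.toSubmonoid.map raH) := by
  refine ⟨⟨_, L.le ⟨gA, rfl⟩, ra_gA.1⟩, ⟨_, L.le ⟨gB, rfl⟩, ra_gA.2.1⟩, ?_, ?_⟩
  · rintro _ ⟨β, hβ, rfl⟩ h
    obtain ⟨g, -, k⟩ := L.syl.exists_conj (rh_pg (n := 2) (rh_one ((rh_pow β 4).trans h))) (zpowers_le.2 hβ)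
    have : (g * β * g⁻¹) ^ 2 = 1 := rh_one (by
      rw [rh_pow]
      rcases rh_Tn.1 (k β (mem_zpowers β)) with e | ⟨i, hi, e⟩ <;> rw [e]
      exacts [one_pow 2, (rh_Iv i hi).1])
    rw [conj_pow, conj_eq_one_iff] at this
    rw [← map_pow, this, map_one]
  · rintro _ ⟨β, hβ, rfl⟩ h h1 h2
    have c1 : Commute β (cA gA) := ra_inj (by rw [ra_mul, ra_mul, ra_gA.1]; exact h1)
    have c2 : Commute β (cA gB) := ra_inj (by rw [ra_mul, ra_mul, ra_gA.2.1]; exact h2)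
    have c : ∀ t ∈ Tn As, β * t * β⁻¹ ∈ Tn As := fun t ht => by
      have : Commute β t := by
        rcases rh_Tn.1 ht with e | ⟨i, hi, e⟩
        · exact rh_one e ▸ Commute.one_right β
        interval_cases i
        · exact ra_inj (ra_gA.1.trans e.symm) ▸ c1
        · exact ra_inj (ra_gA.2.1.trans e.symm) ▸ c2
        · exact ra_inj (ra_gA.2.2.1.trans e.symm) ▸ (cA_mul gA gB).symm ▸ c1.mul_right c2
      rwa [this.eq, mul_inv_cancel_right]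
    exact rh_Tn.1 ((L.syl.eq_of_le L.le ((rh_pg (n := 1) (rh_one ((rh_pow β 2).trans h))).to_sup_of_normal_right'
      (L.syl.isPGroup L.le) (zpowers_le.2 (mem_normalizer_fintype c))) le_sup_right
      (sup_le (zpowers_le.2 hβ) L.le)).le (mem_sup_left (mem_zpowers β)))

theorem Lj.exists_ty (L : Lj B) : ∃ k < 15, Ty B k := by
  exact cert L.sy

theorem Lj.frat (L : Lj B) (h1 : ∀ β ∈ B, ∀ i < 210, ra β = Iv i → β ∈ B') (h2 : rA hS ∈ B → rA hS ∈ B') : B ≤ B' := by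
  intro α hα
  have hT' : Tn As ≤ B' := fun t ht => (rh_Tn.1 ht).elim (fun e => rh_one e ▸ one_mem _)
    fun ⟨i, hi, e⟩ => h1 t (L.le ht) i (by omega) e
  have k : (Tn As).map (MulAut.conj α).toMonoidHom ≤ B ⊓ B' := by
    rintro _ ⟨t, ht, rfl⟩
    have m : α * t * α⁻¹ ∈ B := B.mul_mem (B.mul_mem hα (L.le ht)) (B.inv_mem hα)
    exact ⟨m, show α * t * α⁻¹ ∈ B' from (rh_cover α ht).elim (fun e => e ▸ one_mem _) fun ⟨i, hi, e⟩ => h1 _ m i hi e⟩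
  obtain ⟨d, hd, k'⟩ := (L.syl.of_le (le_inf L.le hT') inf_le_left).exists_conj ((L.syl.isPGroup L.le).map _) k
  have hg : d * α ∈ B := mul_mem hd.1 hα
  have n : ∀ j < 3, ∃ i < 3, ra (d * α) * Iv j = Iv i * ra (d * α) := fun j hj => by
    obtain ⟨t, ht, e⟩ := rh_ex hj
    have m : d * α * t * (d * α)⁻¹ ∈ Tn As := by simpa [mul_assoc] using k' _ ⟨t, ht, rfl⟩
    rcases rh_Tn.1 m with c | ⟨i, hi, c⟩
    · rw [conj_eq_one_iff.1 (rh_one c), ra_one] at e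
      exact absurd e.symm (rh_Iv j hj).2
    · exact ⟨i, hi, by rw [← e, ← c, ← ra_mul, ← ra_mul, inv_mul_cancel_right]⟩
  obtain ⟨i, hi, c1⟩ := n 0 (by omega)
  obtain ⟨j, hj, c2⟩ := n 1 (by omega)
  obtain ⟨a, ha, c⟩ := nrm L.sy ⟨_, hg, rfl⟩ (rh_inv _) hi hj c1 c2
  obtain ⟨t, ht, e⟩ : ∃ t ∈ Tn As, d * α = t * rA hS ^ a := by
    rcases c with c | ⟨l, hl, c⟩
    · exact ⟨1, one_mem _, ra_inj (by rw [one_mul, rh_pow, ra_gA.2.2.2]; exact c)⟩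
    · obtain ⟨t, ht, e⟩ := rh_ex hl
      exact ⟨t, ht, ra_inj (by rw [ra_mul t, rh_pow, ra_gA.2.2.2, e]; exact c)⟩
  refine (B'.mul_mem_cancel_left hd.2).1 (e ▸ mul_mem (hT' ht) ?_)
  rw [e, mul_mem_cancel_left (L.le ht)] at hg
  have h3 : rA hS ^ 3 = 1 := rh_one (by rw [rh_pow, ra_gA.2.2.2, hh_cube])
  interval_cases a
  · exact one_mem _
  · exact pow_mem (h2 (pow_one (rA hS) ▸ hg)) 1
  · have := pow_mem hg 2
    rw [← pow_mul, pow_succ _ 3, h3, one_mul] at this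
    exact pow_mem (h2 this) 2

theorem Lj.ty0 (h : Ty B 0) : ∀ β ∈ B, Lj B → ∀ t ∈ Tn As, β * t * β⁻¹ ∈ Tn As := by
  intro β hβ L t ht
  rcases rh_cover β ht with e | ⟨i, hi, e⟩
  · exact e ▸ one_mem _
  · exact rh_Tn.2 (.inr ⟨i, CC_zero i hi ((h i hi).1 ⟨_, mul_mem (mul_mem hβ (L.le ht)) (inv_mem hβ), e⟩), e⟩)

theorem Lj.ty1 (L : Lj B) {k : ℕ} (h : Ty B k) (h1 : 1 ≤ k) (h2 : k < 7) :
    ∃ y : K4, y ≠ 0 ∧ ∀ β ∈ B, β * cA (Xy y) = cA (Xy y) * β := by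
  obtain ⟨j, hj, c⟩ := cen k h2 h1
  obtain ⟨_, ⟨g, rfl⟩, e⟩ := rh_ex hj
  replace e : ra (cA g) = Iv j := e
  refine ⟨g.y, fun c => (rh_Iv j hj).2 ?_, fun β hβ => ?_⟩
  · rw [← e, cA_congr (h := 1) c, cA, map_one, map_one, ra_one]
  rw [cA_congr (g := Xy g.y) (h := g) rfl]
  refine mem_centralizer_singleton_iff.1 (L.frat (B' := centralizer {cA g}) (fun β hβ i hi e' =>
    mem_centralizer_singleton_iff.2 (ra_inj ?_)) (fun m => absurd m (rh_not h h1 (by omega))) hβ)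
  rw [ra_mul, ra_mul, e, e']
  exact c i hi ((h i hi).1 ⟨β, hβ, e'⟩)

theorem Lj.ty_le (L : Lj B) {k : ℕ} (h : Ty B k) (h' : Ty B' k) (h1 : 7 ≤ k) (h2 : k < 15) : B ≤ B' := by
  refine L.frat (fun β hβ i hi e => ?_) fun m => ?_
  · obtain ⟨β', hβ', e'⟩ := (h' i hi).2 ((h i hi).1 ⟨β, hβ, e⟩)
    exact ra_inj (e'.trans e.symm) ▸ hβ'
  by_cases c : k < 13
  · exact absurd m (rh_not h (by omega) c)
  obtain ⟨i, hi, j, hj, c1, c2, e⟩ := hh_mem k h2 (by omega)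
  obtain ⟨β, hβ, e1⟩ := (h' i hi).2 c1
  obtain ⟨β', hβ', e2⟩ := (h' j hj).2 c2
  rw [show rA hS = β * β' from ra_inj (by rw [ra_mul, e1, e2, ← e, ra_gA.2.2.2])]
  exact mul_mem hβ hβ'

end Cfsg.Agent.U4W
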